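import Groth.Agent.SiteCoh.Constant
import Groth.Prelude

/-!
Subsheaves of the constant sheaf with value ℤ on an irreducible space.
-/

set_option autoImplicit false
set_option linter.style.haveILetI false
set_option linter.unusedSectionVars false
set_option backward.isDefEq.respectTransparency false
set_option backward.isDefEq.respectTransparency.types false

universe u

open CategoryTheory Category Limits Opposite TopologicalSpace

namespace Groth.Agent.ConstSub

open Groth.Agent.SiteCoh

theorem imageSubobject_le_of_sections {Y : TopCat.{u}} {A B C : CohTop.Ab Y} (f : A ⟶ C) (g : B ⟶ C)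
    (h : ∀ (W : (Opens Y)ᵒᵖ) (s : A.obj.obj W), ∃ t : B.obj.obj W, g.hom.app W t = f.hom.app W s) :
    imageSubobject f ≤ imageSubobject g := by
  let m := (imageSubobject g).arrow
  have hf : f ≫ cokernel.π m = 0 := by
    refine Sheaf.hom_ext ?_
    ext W : 2
    refine AddCommGrpCat.ext fun (s : A.obj.obj W) => ?_
    obtain ⟨t, ht⟩ := h W s
    have hg : g ≫ cokernel.π m = 0 := by
      exact (congrArg (· ≫ cokernel.π m) (imageSubobject_arrow_comp g).symm).trans (by rw [assoc, cokernel.condition, comp_zero])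
    change (cokernel.π m).hom.app W (f.hom.app W s) = 0
    rw [← ht]
    exact ConcreteCategory.congr_hom (NatTrans.congr_app (congrArg (fun q => q.hom) hg) W) t
  exact imageSubobject_le f (Abelian.monoLift m f hf) (Abelian.monoLift_comp m f hf)

variable {X : TopCat.{u}} [IrreducibleSpace X]

/-- The value of a section of the constant sheaf on a nonempty open. -/
noncomputable def val {W : Opens X} (hW : (W : Set X).Nonempty) :
    (CohTop.const X (ULift.{u} ℤ)).obj.obj (op W) →+ ℤ where
  toFun x := (((constIsoGeneric X (ULift.{u} ℤ)).hom.hom.app (op W) x) ⟨hW⟩).down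
  map_zero' := by
    rw [map_zero]
    rfl
  map_add' a b := by
    rw [map_add]
    rfl

theorem val_res {W W' : Opens X} (h : W' ≤ W) (hW : (W : Set X).Nonempty) (hW' : (W' : Set X).Nonempty)
    (x : (CohTop.const X (ULift.{u} ℤ)).obj.obj (op W)) :
    val hW' ((CohTop.const X (ULift.{u} ℤ)).obj.map (homOfLE h).op x) = val hW x :=
  congrArg (fun q => (q ⟨hW'⟩ : ULift.{u} ℤ).down)
    (NatTrans.naturality_apply (constIsoGeneric X (ULift.{u} ℤ)).hom.hom (homOfLE h).op x)

theorem ext_val {W : Opens X} {x y : (CohTop.const X (ULift.{u} ℤ)).obj.obj (op W)}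
    (h : ∀ hW : (W : Set X).Nonempty, val hW x = val hW y) : x = y := by
  let e := constIsoGeneric X (ULift.{u} ℤ)
  have : IsIso (e.hom.hom.app (op W)) := inferInstanceAs (IsIso (((sheafToPresheaf _ _).mapIso e).app (op W)).hom)
  exact ((ConcreteCategory.isIso_iff_bijective (e.hom.hom.app (op W))).1 this).1
    (funext fun hW => ULift.ext _ _ (h hW.down))

theorem exists_val (W : Opens X) (k : ℤ) :
    ∃ x : (CohTop.const X (ULift.{u} ℤ)).obj.obj (op W), ∀ hW : (W : Set X).Nonempty, val hW x = k := by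
  let e := constIsoGeneric X (ULift.{u} ℤ)
  have : IsIso (e.hom.hom.app (op W)) := inferInstanceAs (IsIso (((sheafToPresheaf _ _).mapIso e).app (op W)).hom)
  obtain ⟨x, hx⟩ := ((ConcreteCategory.isIso_iff_bijective (e.hom.hom.app (op W))).1 this).2
    (fun _ => (⟨k⟩ : ULift.{u} ℤ))
  exact ⟨x, fun hW => congrArg (fun q => (q ⟨hW⟩ : ULift.{u} ℤ).down) hx⟩

variable {H : CohTop.Ab X} (ι : H ⟶ CohTop.const X (ULift.{u} ℤ))

/-- The values of a subsheaf. -/
noncomputable def values : AddSubgroup ℤ where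
  carrier := {n | ∃ (V : Opens X) (hV : (V : Set X).Nonempty) (s : H.obj.obj (op V)),
    val hV (ι.hom.app (op V) s) = n}
  zero_mem' := ⟨⊤, by simp, 0, by rw [map_zero, map_zero]⟩
  add_mem' := by
    rintro a b ⟨V, hV, s, rfl⟩ ⟨W, hW, t, rfl⟩
    have hVW : ((V ⊓ W : Opens X) : Set X).Nonempty := nonempty_preirreducible_inter V.2 W.2 hV hW
    refine ⟨V ⊓ W, hVW, H.obj.map (homOfLE inf_le_left).op s + H.obj.map (homOfLE inf_le_right).op t, ?_⟩
    rw [map_add, map_add, NatTrans.naturality_apply, NatTrans.naturality_apply, val_res _ hV hVW, val_res _ hW hVW]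
  neg_mem' := by
    rintro a ⟨V, hV, s, rfl⟩
    exact ⟨V, hV, -s, by rw [map_neg, map_neg]⟩

/-- A subsheaf of the constant sheaf is a multiple of it on a nonempty open. -/
theorem exists_open_eq :
    ∃ (U : Opens X) (d : ℤ), U ≠ ⊥ ∧ imageSubobject ((CohTop.restrFunctor U).map ι) =
      imageSubobject ((CohTop.restrFunctor U).map (d • 𝟙 (CohTop.const X (ULift.{u} ℤ)))) := by
  obtain ⟨d, hd⟩ := Int.subgroup_cyclic (values ι)
  obtain ⟨U, hU, s₀, hs₀⟩ : d ∈ values ι := hd ▸ AddSubgroup.mem_closure_of_mem rfl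
  have hd' : ∀ x ∈ values ι, ∃ k : ℤ, x = k * d := fun x hx => by
    rw [hd, AddSubgroup.mem_closure_singleton] at hx
    obtain ⟨k, hk⟩ := hx
    exact ⟨k, by rw [← hk, smul_eq_mul]⟩
  refine ⟨U, d, fun h => ?_, le_antisymm (imageSubobject_le_of_sections _ _ fun W s => ?_)
    (imageSubobject_le_of_sections _ _ fun W t => ?_)⟩
  · rw [h] at hU
    exact Set.not_nonempty_empty hU
  all_goals
    let W' : Opens X := U.isOpenEmbedding.functor.obj W.unop
  · by_cases hW : (W' : Set X).Nonempty
    · obtain ⟨k, hk⟩ := hd' _ ⟨W', hW, s, rfl⟩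
      obtain ⟨x, hx⟩ := exists_val W' k
      refine ⟨x, ext_val fun hW' => ?_⟩
      change val hW' ((d • 𝟙 (CohTop.const X (ULift.{u} ℤ))).hom.app (op W') x) = val hW' (ι.hom.app (op W') s)
      rw [hk, mul_comm, ← hx hW, ← smul_eq_mul, ← map_zsmul]
      rfl
    · exact ⟨0, ext_val fun hW' => absurd hW' hW⟩
  · by_cases hW : (W' : Set X).Nonempty
    · have hle : W' ≤ U := by
        rintro x ⟨y, -, rfl⟩
        exact y.2
      refine ⟨val hW t • H.obj.map (homOfLE hle).op s₀, ext_val fun hW' => ?_⟩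
      change val hW' (ι.hom.app (op W') (val hW t • H.obj.map (homOfLE hle).op s₀)) =
        val hW' ((d • 𝟙 (CohTop.const X (ULift.{u} ℤ))).hom.app (op W') t)
      rw [map_zsmul, map_zsmul, NatTrans.naturality_apply, val_res hle hU hW', hs₀, smul_eq_mul, mul_comm,
        ← smul_eq_mul, ← map_zsmul]
      rfl
    · exact ⟨0, ext_val fun hW' => absurd hW' hW⟩

end Groth.Agent.ConstSub
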